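import Groth.Agent.FittMor.Basic
import Mathlib

/-! Fitting ideals and local ranks. -/

set_option autoImplicit false
universe u
open TensorProduct

namespace Groth.Agent.FittRank

variable {A : Type u} [CommRing A] {M : Type u} [AddCommGroup M] [Module A M]

theorem ideal_eq_bot_of_lt {d : ℕ} (b : Module.Basis (Fin d) A M) {k : ℕ} (hk : k < d) :
    Fitt.ideal A M k = ⊥ := by
  rw [FittIdeal.ideal_eq b b.span_eq, eq_bot_iff, FittIdeal.dIdeal, Ideal.span_le]
  rintro _ ⟨a, ha, rfl⟩
  have hrow := Fintype.linearIndependent_iff.mp b.linearIndependent (a ⟨0, by omega⟩)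
    (ha ⟨0, by omega⟩ (by simp only; omega))
  exact (Submodule.mem_bot A).mpr (Matrix.det_eq_zero_of_row_eq_zero ⟨0, by omega⟩ hrow)

theorem ideal_eq_top_of_span [Module.Finite A M] {k : ℕ} (g : Fin k → M)
    (hg : Submodule.span A (Set.range g) = ⊤) : Fitt.ideal A M k = ⊤ :=
  (S6892.result M M k).1 k g hg

theorem ideal_mono {r s : ℕ} (h : r ≤ s) : Fitt.ideal A M r ≤ Fitt.ideal A M s := by
  refine Ideal.span_mono ?_
  rintro d ⟨n, x, a, hx, ha, hd⟩
  exact ⟨n, x, a, hx, fun i hi => ha i (by omega), hd⟩

theorem ideal_of_basis [Module.Finite A M] {d : ℕ} (b : Module.Basis (Fin d) A M) (k : ℕ) :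
    (k < d → Fitt.ideal A M k = ⊥) ∧ (d ≤ k → Fitt.ideal A M k = ⊤) :=
  ⟨ideal_eq_bot_of_lt b, fun h => eq_top_iff.mpr
    ((ideal_eq_top_of_span b b.span_eq).ge.trans (ideal_mono h))⟩

theorem ideal_localized [Module.Finite A M] (S : Submonoid A) (k : ℕ) :
    Fitt.ideal (Localization S) (LocalizedModule S M) k =
      (Fitt.ideal A M k).map (algebraMap A (Localization S)) := by
  rw [← S6890.result (R := A) (R' := Localization S) M k]
  exact (FittMor.ideal_congr
    (IsLocalizedModule.isBaseChange S (Localization S) (LocalizedModule.mkLinearMap S M)).equiv k).symm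

/-- `m` spans the localization if some element of the submonoid moves `M` into its span. -/
theorem span_localized_eq_top (S : Submonoid A) {k : ℕ} (m : Fin k → M) (s : A) (hs : s ∈ S)
    (h : ∀ x : M, s • x ∈ Submodule.span A (Set.range m)) :
    Submodule.span (Localization S)
      (Set.range fun i => LocalizedModule.mkLinearMap S M (m i)) = ⊤ := by
  set P := Submodule.span (Localization S) (Set.range fun i => LocalizedModule.mkLinearMap S M (m i))
  have hP : Submodule.span A (Set.range m) ≤
      (P.restrictScalars A).comap (LocalizedModule.mkLinearMap S M) :=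
    Submodule.span_le.mpr (by rintro _ ⟨i, rfl⟩; exact Submodule.subset_span ⟨i, rfl⟩)
  refine eq_top_iff.mpr fun y _ => ?_
  induction y using LocalizedModule.induction_on with
  | h a t =>
    have hy : LocalizedModule.mk a t =
        Localization.mk (1 : A) (⟨s, hs⟩ * t) • LocalizedModule.mkLinearMap S M (s • a) := by
      rw [LocalizedModule.mkLinearMap_apply, LocalizedModule.mk_smul_mk, one_smul, mul_one]
      exact (LocalizedModule.mk_cancel_common_left ⟨s, hs⟩ t a).symm
    rw [hy]
    exact P.smul_mem _ (hP (h a))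

variable [Module.Finite A M] (p : Ideal A) [p.IsPrime]

theorem not_le_iff_finrank_le (k : ℕ) : ¬ Fitt.ideal A M k ≤ p ↔
    Module.finrank p.ResidueField (p.ResidueField ⊗[A] M) ≤ k := by
  have h := S6890.result (R := A) (R' := p.ResidueField) M k
  have hb := ideal_of_basis (Module.finBasis p.ResidueField (p.ResidueField ⊗[A] M)) k
  have hle : Fitt.ideal A M k ≤ p ↔ (Fitt.ideal A M k).map (algebraMap A p.ResidueField) = ⊥ := by
    rw [Ideal.map_eq_bot_iff_le_ker, Ideal.ker_algebraMap_residueField]
  rw [hle, ← h]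
  constructor
  · intro hne
    by_contra hlt
    exact hne (hb.1 (not_le.mp hlt))
  · intro hd he
    exact bot_ne_top ((he.symm.trans (hb.2 hd)) : (⊥ : Ideal p.ResidueField) = ⊤)

theorem exists_span_of_finrank_le (k : ℕ)
    (hk : Module.finrank p.ResidueField (p.ResidueField ⊗[A] M) ≤ k) :
    ∃ (m : Fin k → M) (f : A), f ∉ p ∧ ∀ x : M, f • x ∈ Submodule.span A (Set.range m) := by
  classical
  set κ := p.ResidueField
  have htop : Submodule.span κ (Set.range fun a : M => (1 : κ) ⊗ₜ[A] a) = ⊤ := by
    refine eq_top_iff.mpr fun x _ => ?_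
    induction x using TensorProduct.induction_on with
    | zero => exact Submodule.zero_mem _
    | add x y hx hy => exact Submodule.add_mem _ (hx trivial) (hy trivial)
    | tmul a b =>
      rw [show a ⊗ₜ[A] b = a • ((1 : κ) ⊗ₜ[A] b) by rw [TensorProduct.smul_tmul', smul_eq_mul, mul_one]]
      exact Submodule.smul_mem _ _ (Submodule.subset_span ⟨b, rfl⟩)
  obtain ⟨w, hw, hspan, -⟩ :=
    Submodule.exists_fun_fin_finrank_span_eq κ (Set.range fun a : M => (1 : κ) ⊗ₜ[A] a)
  have hd : Module.finrank κ (Submodule.span κ (Set.range fun a : M => (1 : κ) ⊗ₜ[A] a)) ≤ k := by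
    rw [htop, finrank_top]; exact hk
  choose c hc using hw
  let m : Fin k → M := fun i => if hi : (i : ℕ) < _ then c ⟨i, hi⟩ else 0
  let N := Submodule.span A (Set.range m)
  have hN : Submodule.span κ (Set.range fun n : N => (1 : κ) ⊗ₜ[A] (n : M)) = ⊤ := by
    rw [eq_top_iff, ← htop, ← hspan]
    refine Submodule.span_mono ?_
    rintro _ ⟨i, rfl⟩
    refine ⟨⟨c i, Submodule.subset_span ⟨⟨i, i.2.trans_le hd⟩, ?_⟩⟩, hc i⟩
    simp only [m, i.2, dite_true]
  have hzero : Subsingleton (κ ⊗[A] (M ⧸ N)) := by
    refine subsingleton_of_forall_eq 0 fun x => ?_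
    obtain ⟨y, rfl⟩ := (show Function.Surjective (LinearMap.baseChange κ N.mkQ) from
      LinearMap.lTensor_surjective κ N.mkQ_surjective) x
    have hy : y ∈ Submodule.span κ (Set.range fun n : N => (1 : κ) ⊗ₜ[A] (n : M)) := hN ▸ trivial
    induction hy using Submodule.span_induction with
    | mem z hz =>
      obtain ⟨n, rfl⟩ := hz
      rw [LinearMap.baseChange_tmul, Submodule.mkQ_apply, (Submodule.Quotient.mk_eq_zero N).mpr n.2,
        TensorProduct.tmul_zero]
    | zero => exact map_zero _
    | add a b _ _ ha hb => rw [map_add, ha, hb, add_zero]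
    | smul r a _ ha => rw [map_smul, ha, smul_zero]
  have hsupp : (⟨p, inferInstance⟩ : PrimeSpectrum A) ∉ Module.support A (M ⧸ N) := fun hp =>
    not_nontrivial_iff_subsingleton.mpr hzero
      ((Module.mem_support_iff_nontrivial_residueField_tensorProduct _).mp hp)
  rw [Module.support_eq_zeroLocus, PrimeSpectrum.mem_zeroLocus, Set.not_subset] at hsupp
  obtain ⟨f, hf, hfp⟩ := hsupp
  refine ⟨m, f, hfp, fun x => ?_⟩
  rw [← Submodule.Quotient.mk_eq_zero (p := N), Submodule.Quotient.mk_smul]
  exact Module.mem_annihilator.mp hf _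

theorem not_le_of_localized_span (S : Submonoid A) (hS : ∀ s ∈ S, s ∉ p) (k : ℕ)
    (g : Fin k → LocalizedModule S M)
    (hg : Submodule.span (Localization S) (Set.range g) = ⊤) : ¬ Fitt.ideal A M k ≤ p := by
  intro hle
  have h : (Fitt.ideal A M k).map (algebraMap A (Localization S)) = ⊤ := by
    rw [← ideal_localized S k]
    have : Module.Finite (Localization S) (LocalizedModule S M) :=
      Module.Finite.of_isLocalizedModule S (LocalizedModule.mkLinearMap S M)
    exact ideal_eq_top_of_span g hg
  obtain ⟨s, hs, hsI⟩ := Set.not_disjoint_iff.mp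
    ((not_congr (IsLocalization.map_algebraMap_ne_top_iff_disjoint S (Localization S) _)).mp (fun hne => hne h))
  exact hS s hs (hle hsI)

theorem locallyFree_iff (r : ℕ) :
    (∀ (p : Ideal A) [p.IsPrime], ∃ f : A, f ∉ p ∧
      Module.Free (Localization.Away f) (LocalizedModule (Submonoid.powers f) M) ∧
        Module.finrank (Localization.Away f) (LocalizedModule (Submonoid.powers f) M) = r) ↔
    ((∀ k, k < r → Fitt.ideal A M k = ⊥) ∧ (∀ k, r ≤ k → Fitt.ideal A M k = ⊤)) := by
  have fin : ∀ f : A, Module.Finite (Localization.Away f) (LocalizedModule (Submonoid.powers f) M) :=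
    fun f => Module.Finite.of_isLocalizedModule (Submonoid.powers f) (LocalizedModule.mkLinearMap _ M)
  constructor
  · intro h
    have key : ∀ (q : Ideal A) [q.IsPrime], ∃ f : A, f ∉ q ∧
        (∀ k, k < r → (Fitt.ideal A M k).map (algebraMap A (Localization.Away f)) = ⊥) ∧
        (∀ k, r ≤ k → (Fitt.ideal A M k).map (algebraMap A (Localization.Away f)) = ⊤) := by
      intro q _
      obtain ⟨f, hf, hfree, hr⟩ := h q
      have := fin f
      have : Nontrivial (Localization.Away f) := by
        refine not_subsingleton_iff_nontrivial.mp fun hsub => ?_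
        obtain ⟨n, hn⟩ := (IsLocalization.subsingleton_iff (S := Localization.Away f) (M := Submonoid.powers f)).mp hsub
        exact hf ((inferInstance : q.IsPrime).mem_of_pow_mem n ((show f ^ n = 0 from hn).symm ▸ q.zero_mem))
      refine ⟨f, hf, fun k hk => ?_, fun k hk => ?_⟩
      · rw [← ideal_localized]
        exact (ideal_of_basis (Module.finBasisOfFinrankEq _ _ hr) k).1 hk
      · rw [← ideal_localized]
        exact (ideal_of_basis (Module.finBasisOfFinrankEq _ _ hr) k).2 hk
    refine ⟨fun k hk => eq_bot_iff.mpr fun a ha => ?_, fun k hk => ?_⟩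
    · by_contra hne
      have hann : Ideal.torsionOf A A a ≠ ⊤ := fun he => hne (by
        simpa using (Ideal.mem_torsionOf_iff _ _).mp (he ▸ Submodule.mem_top : (1 : A) ∈ _))
      obtain ⟨q, hq, hle⟩ := Ideal.exists_le_maximal _ hann
      obtain ⟨f, hf, hb, -⟩ := key q
      have := Ideal.mem_map_of_mem (algebraMap A (Localization.Away f)) ha
      rw [hb k hk, Ideal.mem_bot, IsLocalization.map_eq_zero_iff (Submonoid.powers f)] at this
      obtain ⟨⟨_, n, rfl⟩, hn⟩ := this
      exact hf (hq.isPrime.mem_of_pow_mem n (hle ((Ideal.mem_torsionOf_iff _ _).mpr (by simpa using hn))))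
    · by_contra hne
      obtain ⟨q, hq, hle⟩ := Ideal.exists_le_maximal _ hne
      obtain ⟨f, hf, -, ht⟩ := key q
      obtain ⟨s, ⟨n, rfl⟩, hs⟩ := Set.not_disjoint_iff.mp
        ((not_congr (IsLocalization.map_algebraMap_ne_top_iff_disjoint (Submonoid.powers f)
          (Localization.Away f) _)).mp (fun h' => h' (ht k hk)))
      exact hf (hq.isPrime.mem_of_pow_mem n (hle hs))
  · rintro ⟨h1, h2⟩ q hq
    obtain ⟨n, x, hx⟩ := Module.Finite.exists_fin (R := A) (M := M)
    have : Module.Projective A M := HopfFF.projective_of_fitting x hx r (h2 r le_rfl) h1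
    have : Module.FinitePresentation A M := Module.finitePresentation_of_projective A M
    have : Module.Finite (Localization.AtPrime q) (LocalizedModule q.primeCompl M) :=
      Module.Finite.of_isLocalizedModule q.primeCompl (LocalizedModule.mkLinearMap _ M)
    have : Module.Free (Localization.AtPrime q) (LocalizedModule q.primeCompl M) :=
      Module.free_of_flat_of_isLocalRing
    obtain ⟨f, hf, hfree, hrank⟩ := Module.FinitePresentation.exists_free_localizedModule_powers
      q.primeCompl (LocalizedModule.mkLinearMap q.primeCompl M) (Localization.AtPrime q)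
    refine ⟨f, hf, hfree, hrank.trans ?_⟩
    rw [← FittMor.rankAtStalk_of_fitting h1 (h2 r le_rfl) ⟨q, hq⟩]
    rfl

end Groth.Agent.FittRank
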